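import Cfsg.Agent.Lib.Helper16.StCCB.Trick

set_option autoImplicit false
set_option linter.unusedSectionVars false

/-! Steinberg's Theorem 10, PART B: the word identities `(*)`, `(**)` for the shapes with at most
two terms (all root elements involved commute). -/

namespace Cfsg.Agent.Lib.Helper14.StCC.B

open Cfsg.Lie Cfsg.Agent.Lib.Helper8.Chev

section abstract

variable {K : Type*} [Field K] {E : Type*} [Group E] {φ : ℕ → K → E}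

theorem AddP.zero {a : ℕ} (h : AddP φ a) : φ a 0 = 1 := by
  have := h 0 0
  rw [add_zero] at this
  exact mul_eq_left.mp this

theorem AddP.inv {a : ℕ} (h : AddP φ a) (x : K) : (φ a x)⁻¹ = φ a (-x) := by
  apply inv_eq_of_mul_eq_one_right
  rw [h, add_neg_cancel, h.zero]

theorem AddP.mul_inv {a : ℕ} (h : AddP φ a) (x y : K) : φ a x * (φ a y)⁻¹ = φ a (x - y) := by
  rw [h.inv, h, sub_eq_add_neg]

theorem AddP.inv_mul {a : ℕ} (h : AddP φ a) (x y : K) : (φ a x)⁻¹ * φ a y = φ a (y - x) := by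
  rw [h.inv, h]; congr 1; ring

theorem CommP.conj {a b : ℕ} (h : CommP φ a b) (x y : K) : φ a x * φ b y * (φ a x)⁻¹ = φ b y := by
  rw [h x y]; group

theorem CommP.symm {a b : ℕ} (h : CommP φ a b) : CommP φ b a := fun x y => (h y x).symm

theorem CommP.commute {a b : ℕ} (h : CommP φ a b) (x y : K) : Commute (φ a x) (φ b y) := h x y

/-- shape 0 -/
theorem star_shape0 (φ : ℕ → K → E) (s : ℕ) (b t u : K) :
    φ s u * tW φ [] t (b * u) * (tW φ [] t u)⁻¹ * (φ s u)⁻¹ = tW φ [] t ((b - 1) * u) := by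
  simp [tW_nil]

/-- shape 1 -/
theorem star_shape1 (φ : ℕ → K → E) {s q : ℕ} {C : ℤ} (aq : AddP φ q) (csq : CommP φ s q) (b t u : K) :
    φ s u * tW φ [(q, C, 1, 1)] t (b * u) * (tW φ [(q, C, 1, 1)] t u)⁻¹ * (φ s u)⁻¹ =
      tW φ [(q, C, 1, 1)] t ((b - 1) * u) := by
  simp only [tW_cons, tW_nil, mul_one]
  rw [mul_assoc (φ s u), aq.mul_inv, csq.conj]
  congr 1; ring

/-- shape 2 (scale `u`) -/
theorem star_shape2 (φ : ℕ → K → E) {s q1 q2 : ℕ} {C1 C2 : ℤ} (a1 : AddP φ q1) (a2 : AddP φ q2)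
    (c12 : CommP φ q1 q2) (cs1 : CommP φ s q1) (cs2 : CommP φ s q2) (b t u : K) :
    φ s u * tW φ [(q1, C1, 1, 1), (q2, C2, 2, 1)] t (b * u) *
        (tW φ [(q1, C1, 1, 1), (q2, C2, 2, 1)] t u)⁻¹ * (φ s u)⁻¹ =
      tW φ [(q1, C1, 1, 1), (q2, C2, 2, 1)] t ((b - 1) * u) := by
  simp only [tW_cons, tW_nil, mul_one, mul_inv_rev]
  -- σ A1 B1 B0⁻¹ A0⁻¹ σ⁻¹
  have e1 : ∀ x y z : K, φ q1 x * φ q2 y * ((φ q2 z)⁻¹ * (φ q1 x)⁻¹) = φ q2 (y - z) := by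
    intro x y z
    rw [c12 x y]
    calc φ q2 y * φ q1 x * ((φ q2 z)⁻¹ * (φ q1 x)⁻¹)
        = φ q2 y * (φ q1 x * (φ q2 z)⁻¹ * (φ q1 x)⁻¹) := by group
      _ = φ q2 y * (φ q2 z)⁻¹ := by
        rw [a2.inv, c12.conj]
      _ = _ := a2.mul_inv y z
  set A1 := φ q1 ((C1 : K) * (-t) ^ 1 * (b * u) ^ 1) with hA1
  set B1 := φ q2 ((C2 : K) * (-t) ^ 2 * (b * u) ^ 1) with hB1
  set A0 := φ q1 ((C1 : K) * (-t) ^ 1 * u ^ 1) with hA0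
  set B0 := φ q2 ((C2 : K) * (-t) ^ 2 * u ^ 1) with hB0
  have hBA : Commute (B1 * B0⁻¹) A0⁻¹ :=
    ((c12.symm.commute _ _).mul_left (c12.symm.commute _ _).inv_left).inv_right
  have e2 : A1 * B1 * (B0⁻¹ * A0⁻¹) = (A1 * A0⁻¹) * (B1 * B0⁻¹) := by
    calc A1 * B1 * (B0⁻¹ * A0⁻¹) = A1 * ((B1 * B0⁻¹) * A0⁻¹) := by group
      _ = A1 * (A0⁻¹ * (B1 * B0⁻¹)) := by rw [hBA.eq]
      _ = _ := by group
  rw [mul_assoc (φ s u), e2, hA1, hA0, hB1, hB0, a1.mul_inv, a2.mul_inv]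
  have hσ : Commute (φ s u) (φ q1 ((C1 : K) * (-t) ^ 1 * (b * u) ^ 1 - (C1 : K) * (-t) ^ 1 * u ^ 1) *
      φ q2 ((C2 : K) * (-t) ^ 2 * (b * u) ^ 1 - (C2 : K) * (-t) ^ 2 * u ^ 1)) :=
    (cs1.commute _ _).mul_right (cs2.commute _ _)
  rw [hσ.eq, mul_assoc, mul_inv_cancel, mul_one]
  congr 2 <;> ring

/-- shape 2' (scale `t`) -/
theorem star_shape2' (φ : ℕ → K → E) {r q1 q2 : ℕ} {C1 C2 : ℤ} (a1 : AddP φ q1) (a2 : AddP φ q2)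
    (c12 : CommP φ q1 q2) (cr1 : CommP φ r q1) (cr2 : CommP φ r q2) (a t u : K) :
    φ r t * (tW φ [(q1, C1, 1, 1), (q2, C2, 1, 2)] t u)⁻¹ *
        tW φ [(q1, C1, 1, 1), (q2, C2, 1, 2)] (a * t) u * (φ r t)⁻¹ =
      tW φ [(q1, C1, 1, 1), (q2, C2, 1, 2)] ((a - 1) * t) u := by
  simp only [tW_cons, tW_nil, mul_one, mul_inv_rev]
  set A1 := φ q1 ((C1 : K) * (-(a * t)) ^ 1 * u ^ 1) with hA1
  set B1 := φ q2 ((C2 : K) * (-(a * t)) ^ 1 * u ^ 2) with hB1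
  set A0 := φ q1 ((C1 : K) * (-t) ^ 1 * u ^ 1) with hA0
  set B0 := φ q2 ((C2 : K) * (-t) ^ 1 * u ^ 2) with hB0
  have hBA : Commute B0⁻¹ (A0⁻¹ * A1) :=
    ((c12.symm.commute _ _).inv_right.mul_right (c12.symm.commute _ _)).inv_left
  have e2 : B0⁻¹ * A0⁻¹ * (A1 * B1) = (A0⁻¹ * A1) * (B0⁻¹ * B1) := by
    calc B0⁻¹ * A0⁻¹ * (A1 * B1) = (B0⁻¹ * (A0⁻¹ * A1)) * B1 := by group
      _ = ((A0⁻¹ * A1) * B0⁻¹) * B1 := by rw [hBA.eq]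
      _ = _ := by group
  rw [mul_assoc (φ r t), e2, hA1, hA0, hB1, hB0, a1.inv_mul, a2.inv_mul]
  have hσ : Commute (φ r t) (φ q1 ((C1 : K) * (-(a * t)) ^ 1 * u ^ 1 - (C1 : K) * (-t) ^ 1 * u ^ 1) *
      φ q2 ((C2 : K) * (-(a * t)) ^ 1 * u ^ 2 - (C2 : K) * (-t) ^ 1 * u ^ 2)) :=
    (cr1.commute _ _).mul_right (cr2.commute _ _)
  rw [hσ.eq, mul_assoc, mul_inv_cancel, mul_one]
  congr 2 <;> ring

end abstract

end Cfsg.Agent.Lib.Helper14.StCC.B
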