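import Cfsg.Agent.Lib.Helper16.StCCB.Defs

set_option autoImplicit false

/-! Steinberg's Theorem 10, PART B: the commutator trick.  A lift `g` of a torus element that
centralises `φ r` and scales `φ s` by `b ≠ 1` turns the relation (R2) for `(r, s)` into a word
identity between root elements of smaller height (the central defect drops out of a commutator
with `g`). -/

namespace Cfsg.Agent.Lib.Helper14.StCC.B

open Cfsg.Lie Cfsg.Agent.Lib.Helper8.Chev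

section abstract

variable {E : Type*} [Group E]

/-- the group-theoretic core of the trick (scaling the second root) -/
theorem trick_aux (g ρ σ σb τ W Wb W' c : E) (hcz : ∀ x : E, x * c = c * x)
    (h0 : σ * ρ = ρ * σ * W * c) (hgρ : g * ρ * g⁻¹ = ρ) (hgσ : g * σ * g⁻¹ = σb)
    (hgW : g * W * g⁻¹ = Wb) (hτ : τ * σ = σb) (hstar : σ * Wb * W⁻¹ * σ⁻¹ = W') :
    τ * ρ = ρ * τ * W' := by
  have e1 : g * ρ = ρ * g := by
    calc g * ρ = g * ρ * g⁻¹ * g := by group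
      _ = ρ * g := by rw [hgρ]
  have e1' : g⁻¹ * ρ = ρ * g⁻¹ := by
    calc g⁻¹ * ρ = g⁻¹ * (ρ * g) * g⁻¹ := by group
      _ = g⁻¹ * (g * ρ) * g⁻¹ := by rw [e1]
      _ = ρ * g⁻¹ := by group
  have e3 : σ⁻¹ * ρ = ρ * c⁻¹ * W⁻¹ * σ⁻¹ := by
    calc σ⁻¹ * ρ = σ⁻¹ * (ρ * σ * W * c) * (σ * W * c)⁻¹ := by group
      _ = σ⁻¹ * (σ * ρ) * (σ * W * c)⁻¹ := by rw [h0]
      _ = ρ * c⁻¹ * W⁻¹ * σ⁻¹ := by group
  have hc' : c * g⁻¹ * c⁻¹ = g⁻¹ := by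
    rw [← hcz g⁻¹]; group
  have hτ' : τ = σb * σ⁻¹ := by rw [← hτ]; group
  calc τ * ρ = σb * (σ⁻¹ * ρ) := by rw [hτ']; group
    _ = σb * (ρ * c⁻¹ * W⁻¹ * σ⁻¹) := by rw [e3]
    _ = g * σ * (g⁻¹ * ρ) * c⁻¹ * W⁻¹ * σ⁻¹ := by rw [← hgσ]; group
    _ = g * σ * (ρ * g⁻¹) * c⁻¹ * W⁻¹ * σ⁻¹ := by rw [e1']
    _ = g * (σ * ρ) * g⁻¹ * c⁻¹ * W⁻¹ * σ⁻¹ := by group
    _ = g * (ρ * σ * W * c) * g⁻¹ * c⁻¹ * W⁻¹ * σ⁻¹ := by rw [h0]
    _ = (g * ρ) * σ * W * (c * g⁻¹ * c⁻¹) * W⁻¹ * σ⁻¹ := by group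
    _ = (ρ * g) * σ * W * g⁻¹ * W⁻¹ * σ⁻¹ := by rw [e1, hc']
    _ = ρ * (g * σ * g⁻¹ * σ⁻¹) * (σ * (g * W * g⁻¹) * W⁻¹ * σ⁻¹) := by group
    _ = ρ * τ * W' := by rw [hgσ, hgW, hstar, hτ']

/-- the group-theoretic core of the trick (scaling the first root) -/
theorem trick_aux' (g ρ σ ρa τ W Wa W' c : E) (hcz : ∀ x : E, x * c = c * x)
    (h0 : σ * ρ = ρ * σ * W * c) (hgσ : g * σ * g⁻¹ = σ) (hgρ : g * ρ * g⁻¹ = ρa)
    (hgW : g * W * g⁻¹ = Wa) (hτ : τ * ρ = ρa) (hstar : ρ * W⁻¹ * Wa * ρ⁻¹ = W') :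
    σ * τ = τ * σ * W' := by
  have e1 : g * σ = σ * g := by
    calc g * σ = g * σ * g⁻¹ * g := by group
      _ = σ * g := by rw [hgσ]
  have e1' : g⁻¹ * σ = σ * g⁻¹ := by
    calc g⁻¹ * σ = g⁻¹ * (σ * g) * g⁻¹ := by group
      _ = g⁻¹ * (g * σ) * g⁻¹ := by rw [e1]
      _ = σ * g⁻¹ := by group
  -- ρ σ = σ ρ W⁻¹ c⁻¹
  have e3 : ρ * σ = σ * ρ * W⁻¹ * c⁻¹ := by
    calc ρ * σ = (ρ * σ * W * c) * c⁻¹ * W⁻¹ := by group
      _ = σ * ρ * c⁻¹ * W⁻¹ := by rw [← h0]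
      _ = σ * ρ * (c⁻¹ * W⁻¹) := by group
      _ = σ * ρ * (W⁻¹ * c⁻¹) := by
        congr 1
        have := hcz W⁻¹
        calc c⁻¹ * W⁻¹ = c⁻¹ * (W⁻¹ * c) * c⁻¹ := by group
          _ = c⁻¹ * (c * W⁻¹) * c⁻¹ := by rw [this]
          _ = W⁻¹ * c⁻¹ := by group
      _ = σ * ρ * W⁻¹ * c⁻¹ := by group
  have hc' : c⁻¹ * g⁻¹ * c = g⁻¹ := by
    rw [mul_assoc, hcz g⁻¹]; group
  have hτ' : τ = ρa * ρ⁻¹ := by rw [← hτ]; group
  -- τ σ = σ ρa Wa⁻¹ W ρ⁻¹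
  have key : τ * σ = σ * ρa * Wa⁻¹ * W * ρ⁻¹ := by
    have e4 : ρ⁻¹ * σ = σ * c * W * ρ⁻¹ := by
      calc ρ⁻¹ * σ = ρ⁻¹ * (σ * ρ) * ρ⁻¹ := by group
        _ = ρ⁻¹ * (ρ * σ * W * c) * ρ⁻¹ := by rw [h0]
        _ = σ * (W * c) * ρ⁻¹ := by group
        _ = σ * (c * W) * ρ⁻¹ := by rw [hcz W]
        _ = σ * c * W * ρ⁻¹ := by group
    calc τ * σ = ρa * (ρ⁻¹ * σ) := by rw [hτ']; group
      _ = ρa * (σ * c * W * ρ⁻¹) := by rw [e4]
      _ = g * (ρ * (g⁻¹ * σ)) * c * W * ρ⁻¹ := by rw [← hgρ]; group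
      _ = g * (ρ * (σ * g⁻¹)) * c * W * ρ⁻¹ := by rw [e1']
      _ = g * (ρ * σ) * g⁻¹ * c * W * ρ⁻¹ := by group
      _ = g * (σ * ρ * W⁻¹ * c⁻¹) * g⁻¹ * c * W * ρ⁻¹ := by rw [e3]
      _ = (g * σ) * ρ * W⁻¹ * (c⁻¹ * g⁻¹ * c) * W * ρ⁻¹ := by group
      _ = (σ * g) * ρ * W⁻¹ * g⁻¹ * W * ρ⁻¹ := by rw [e1, hc']
      _ = σ * (g * ρ * g⁻¹) * (g * W * g⁻¹)⁻¹ * W * ρ⁻¹ := by group
      _ = σ * ρa * Wa⁻¹ * W * ρ⁻¹ := by rw [hgρ, hgW]
  calc σ * τ = σ * ρa * Wa⁻¹ * W * ρ⁻¹ * (ρ * W⁻¹ * Wa * ρ⁻¹) := by rw [hτ']; group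
    _ = τ * σ * W' := by rw [key, hstar]

end abstract

section words

variable {K : Type*} [Field K] {E : Type*} [Group E]

theorem tW_nil (φ : ℕ → K → E) (t u : K) : tW φ [] t u = 1 := rfl

theorem tW_cons (φ : ℕ → K → E) (c : ℕ × ℤ × ℕ × ℕ) (l : List (ℕ × ℤ × ℕ × ℕ)) (t u : K) :
    tW φ (c :: l) t u = φ c.1 ((c.2.1 : K) * (-t) ^ c.2.2.1 * u ^ c.2.2.2) * tW φ l t u := by
  unfold tW
  rw [List.map_cons, wS_cons]

/-- conjugating a word of terms by an element scaling `φ q` by `b ^ j` -/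
theorem conj_tW_u (φ : ℕ → K → E) (g : E) (b : K) (l : List (ℕ × ℤ × ℕ × ℕ))
    (h : ∀ c ∈ l, ∀ x : K, g * φ c.1 x * g⁻¹ = φ c.1 (b ^ c.2.2.2 * x)) (t u : K) :
    g * tW φ l t u * g⁻¹ = tW φ l t (b * u) := by
  induction l with
  | nil => simp [tW_nil]
  | cons c l ih =>
    rw [tW_cons, tW_cons]
    have h1 := h c List.mem_cons_self ((c.2.1 : K) * (-t) ^ c.2.2.1 * u ^ c.2.2.2)
    have h2 := ih fun c' hc' => h c' (List.mem_cons_of_mem _ hc')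
    calc g * (φ c.1 ((c.2.1 : K) * (-t) ^ c.2.2.1 * u ^ c.2.2.2) * tW φ l t u) * g⁻¹
        = (g * φ c.1 ((c.2.1 : K) * (-t) ^ c.2.2.1 * u ^ c.2.2.2) * g⁻¹) *
            (g * tW φ l t u * g⁻¹) := by group
      _ = _ := by
        rw [h1, h2]
        congr 2
        rw [mul_pow]; ring

/-- conjugating a word of terms by an element scaling `φ q` by `a ^ i` -/
theorem conj_tW_t (φ : ℕ → K → E) (g : E) (a : K) (l : List (ℕ × ℤ × ℕ × ℕ))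
    (h : ∀ c ∈ l, ∀ x : K, g * φ c.1 x * g⁻¹ = φ c.1 (a ^ c.2.2.1 * x)) (t u : K) :
    g * tW φ l t u * g⁻¹ = tW φ l (a * t) u := by
  induction l with
  | nil => simp [tW_nil]
  | cons c l ih =>
    rw [tW_cons, tW_cons]
    have h1 := h c List.mem_cons_self ((c.2.1 : K) * (-t) ^ c.2.2.1 * u ^ c.2.2.2)
    have h2 := ih fun c' hc' => h c' (List.mem_cons_of_mem _ hc')
    calc g * (φ c.1 ((c.2.1 : K) * (-t) ^ c.2.2.1 * u ^ c.2.2.2) * tW φ l t u) * g⁻¹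
        = (g * φ c.1 ((c.2.1 : K) * (-t) ^ c.2.2.1 * u ^ c.2.2.2) * g⁻¹) *
            (g * tW φ l t u * g⁻¹) := by group
      _ = _ := by
        rw [h1, h2]
        congr 2
        rw [show -(a * t) = a * (-t) by ring, mul_pow]; ring

end words

section lift

variable {D : ChevalleyDatum} {K : Type*} [Field K] {Γ : Type*} [Group Γ] {E : Type*} [Group E]

theorem map_tW {S : StRep D K Γ} {ψ : E →* Γ} (L : RootLift S ψ) (l : List (ℕ × ℤ × ℕ × ℕ))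
    (h : ∀ c ∈ l, c.1 < D.nroots) (t u : K) : ψ (tW L.φ l t u) = tW S.x l t u := by
  induction l with
  | nil => simp [tW_nil]
  | cons c l ih =>
    rw [tW_cons, tW_cons, map_mul, L.map c.1 (h c List.mem_cons_self),
      ih fun c' hc' => h c' (List.mem_cons_of_mem _ hc')]

/-- the defect of the relation (R2) is central -/
theorem defect_central {S : StRep D K Γ} {ψ : E →* Γ} (hc : ψ.ker ≤ Subgroup.center E)
    (L : RootLift S ψ) {r s : ℕ} (hr : r < D.nroots) (hs : s < D.nroots) (h1 : s ≠ r)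
    (h2 : s ≠ D.neg r) (hroots : ∀ c ∈ D.commTerms r s, c.1 < D.nroots) (t u : K) :
    ∃ c : E, (∀ x : E, x * c = c * x) ∧
      L.φ s u * L.φ r t = L.φ r t * L.φ s u * tW L.φ (D.commTerms r s) t u * c := by
  refine ⟨(L.φ r t * L.φ s u * tW L.φ (D.commTerms r s) t u)⁻¹ * (L.φ s u * L.φ r t), ?_, by group⟩
  have hk : (L.φ r t * L.φ s u * tW L.φ (D.commTerms r s) t u)⁻¹ * (L.φ s u * L.φ r t) ∈ ψ.ker := by
    rw [MonoidHom.mem_ker, map_mul, map_inv, map_mul, map_mul, map_mul, L.map r hr, L.map s hs,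
      map_tW L _ hroots, S.comm r hr s hs h1 h2 t u, wS_commWord]
    group
  have := hc hk
  rw [Subgroup.mem_center_iff] at this
  exact this

/-- THE TRICK (scaling the second root): (R2) for `(r, s)` from the word identity `(*)`. -/
theorem comm_of_star (S : StRep D K Γ) (ψ : E →* Γ) (hψ : Function.Surjective ψ)
    (hc : ψ.ker ≤ Subgroup.center E) (L : RootLift S ψ) {r s : ℕ} (hr : r < D.nroots)
    (hs : s < D.nroots) (h1 : s ≠ r) (h2 : s ≠ D.neg r) (m : ℕ → ℤ) (hm0 : wt D m r = 0)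
    {v : K} (hv : v ≠ 0) (hb : v ^ wt D m s ≠ 1)
    (hterms : ∀ c ∈ D.commTerms r s, c.1 < D.nroots ∧
      wt D m c.1 = (c.2.2.1 : ℤ) * wt D m r + (c.2.2.2 : ℤ) * wt D m s)
    (hstar : ∀ t u : K, L.φ s u * tW L.φ (D.commTerms r s) t (v ^ wt D m s * u) *
        (tW L.φ (D.commTerms r s) t u)⁻¹ * (L.φ s u)⁻¹ =
      tW L.φ (D.commTerms r s) t ((v ^ wt D m s - 1) * u)) :
    ∀ t u : K, L.φ s u * L.φ r t = L.φ r t * L.φ s u * wS L.φ (D.commWord K r s t u) := by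
  intro t u'
  obtain ⟨g0, hg0H, hg0⟩ := exists_torus S m hv
  obtain ⟨g, hg⟩ := hψ g0
  have heq := L.equiv g (fun q => v ^ wt D m q) (by rw [hg]; exact hg0H) (by rw [hg]; exact hg0)
  set b : K := v ^ wt D m s with hbdef
  have hb1 : b - 1 ≠ 0 := sub_ne_zero.mpr hb
  set u : K := u' / (b - 1) with hu
  have huu : (b - 1) * u = u' := by rw [hu]; field_simp
  obtain ⟨c, hcz, h0⟩ := defect_central hc L hr hs h1 h2 (fun c hc' => (hterms c hc').1) t u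
  have hgρ : g * L.φ r t * g⁻¹ = L.φ r t := by
    rw [heq r hr t]
    simp only [hm0, zpow_zero, one_mul]
  have hgσ : g * L.φ s u * g⁻¹ = L.φ s (b * u) := heq s hs u
  have hgW : g * tW L.φ (D.commTerms r s) t u * g⁻¹ = tW L.φ (D.commTerms r s) t (b * u) := by
    apply conj_tW_u
    intro c' hc' x
    obtain ⟨hlt, hw⟩ := hterms c' hc'
    have e2 : v ^ wt D m c'.1 = b ^ c'.2.2.2 := by
      rw [hw, hm0, mul_zero, zero_add, mul_comm, zpow_mul, zpow_natCast]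
    rw [heq c'.1 hlt x]
    show L.φ c'.1 (v ^ wt D m c'.1 * x) = _
    rw [e2]
  have hτ : L.φ s ((b - 1) * u) * L.φ s u = L.φ s (b * u) := by
    rw [L.add s hs]; congr 1; ring
  have := trick_aux g (L.φ r t) (L.φ s u) (L.φ s (b * u)) (L.φ s ((b - 1) * u))
    (tW L.φ (D.commTerms r s) t u) (tW L.φ (D.commTerms r s) t (b * u))
    (tW L.φ (D.commTerms r s) t ((b - 1) * u)) c hcz h0 hgρ hgσ hgW hτ (hstar t u)
  rw [huu] at this
  rw [wS_commWord]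
  exact this

/-- THE TRICK (scaling the first root): (R2) for `(r, s)` from the word identity `(**)`. -/
theorem comm_of_star' (S : StRep D K Γ) (ψ : E →* Γ) (hψ : Function.Surjective ψ)
    (hc : ψ.ker ≤ Subgroup.center E) (L : RootLift S ψ) {r s : ℕ} (hr : r < D.nroots)
    (hs : s < D.nroots) (h1 : s ≠ r) (h2 : s ≠ D.neg r) (m : ℕ → ℤ) (hm0 : wt D m s = 0)
    {v : K} (hv : v ≠ 0) (hb : v ^ wt D m r ≠ 1)
    (hterms : ∀ c ∈ D.commTerms r s, c.1 < D.nroots ∧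
      wt D m c.1 = (c.2.2.1 : ℤ) * wt D m r + (c.2.2.2 : ℤ) * wt D m s)
    (hstar : ∀ t u : K, L.φ r t * (tW L.φ (D.commTerms r s) t u)⁻¹ *
        tW L.φ (D.commTerms r s) (v ^ wt D m r * t) u * (L.φ r t)⁻¹ =
      tW L.φ (D.commTerms r s) ((v ^ wt D m r - 1) * t) u) :
    ∀ t u : K, L.φ s u * L.φ r t = L.φ r t * L.φ s u * wS L.φ (D.commWord K r s t u) := by
  intro t' u
  obtain ⟨g0, hg0H, hg0⟩ := exists_torus S m hv
  obtain ⟨g, hg⟩ := hψ g0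
  have heq := L.equiv g (fun q => v ^ wt D m q) (by rw [hg]; exact hg0H) (by rw [hg]; exact hg0)
  set a : K := v ^ wt D m r with hadef
  have ha1 : a - 1 ≠ 0 := sub_ne_zero.mpr hb
  set t : K := t' / (a - 1) with ht
  have htt : (a - 1) * t = t' := by rw [ht]; field_simp
  obtain ⟨c, hcz, h0⟩ := defect_central hc L hr hs h1 h2 (fun c hc' => (hterms c hc').1) t u
  have hgσ : g * L.φ s u * g⁻¹ = L.φ s u := by
    rw [heq s hs u]
    simp only [hm0, zpow_zero, one_mul]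
  have hgρ : g * L.φ r t * g⁻¹ = L.φ r (a * t) := heq r hr t
  have hgW : g * tW L.φ (D.commTerms r s) t u * g⁻¹ = tW L.φ (D.commTerms r s) (a * t) u := by
    apply conj_tW_t
    intro c' hc' x
    obtain ⟨hlt, hw⟩ := hterms c' hc'
    have e2 : v ^ wt D m c'.1 = a ^ c'.2.2.1 := by
      rw [hw, hm0, mul_zero, add_zero, mul_comm, zpow_mul, zpow_natCast]
    rw [heq c'.1 hlt x]
    show L.φ c'.1 (v ^ wt D m c'.1 * x) = _
    rw [e2]
  have hτ : L.φ r ((a - 1) * t) * L.φ r t = L.φ r (a * t) := by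
    rw [L.add r hr]; congr 1; ring
  have := trick_aux' g (L.φ r t) (L.φ s u) (L.φ r (a * t)) (L.φ r ((a - 1) * t))
    (tW L.φ (D.commTerms r s) t u) (tW L.φ (D.commTerms r s) (a * t) u)
    (tW L.φ (D.commTerms r s) ((a - 1) * t) u) c hcz h0 hgσ hgρ hgW hτ (hstar t u)
  rw [htt] at this
  rw [wS_commWord]
  exact this

end lift

end Cfsg.Agent.Lib.Helper14.StCC.B
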