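import Cfsg.Agent.Lib.Helper16.StCCB.Defs

set_option autoImplicit false
set_option linter.unusedSimpArgs false

/-! Steinberg's Theorem 10, PART B: the word identity `(*)` for the three-term shape (two short
roots of `G₂` at 120°) - helper16's own copy (same method as helper12's `core4`), in the
sub-namespace `Helper16` so that it cannot clash with the piece [BS3]. -/

namespace Cfsg.Agent.Lib.Helper14.StCC.B

open Cfsg.Lie Cfsg.Agent.Lib.Helper8.Chev

namespace Helper16

variable {K : Type*} [Field K] {E : Type*} [Group E]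

theorem add_zero3 {A : K → E} (h : ∀ x y, A x * A y = A (x + y)) : A 0 = 1 := by
  have := h 0 0
  rw [add_zero] at this
  exact mul_eq_left.mp this

theorem add_inv3 {A : K → E} (h : ∀ x y, A x * A y = A (x + y)) (x : K) : (A x)⁻¹ = A (-x) := by
  apply inv_eq_of_mul_eq_one_right
  rw [h, add_neg_cancel, add_zero3 h]

/-- the abstract three-term computation -/
theorem core3 (A B C S : K → E)
    (aA : ∀ x y, A x * A y = A (x + y)) (aB : ∀ x y, B x * B y = B (x + y))
    (aC : ∀ x y, C x * C y = C (x + y)) (aS : ∀ x y, S x * S y = S (x + y))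
    (cAB : ∀ x y, A x * B y = B y * A x) (cAC : ∀ x y, A x * C y = C y * A x)
    (cBC : ∀ x y, B x * C y = C y * B x)
    (cSB : ∀ x y, S x * B y = B y * S x) (cSC : ∀ x y, S x * C y = C y * S x)
    (k : K) (hAS : ∀ x y : K, A y * S x = S x * A y * C (k * (-x) * y))
    (u a1 b1 c1 a0 b0 c0 : K) :
    S u * (A a1 * B b1 * C c1) * (A a0 * B b0 * C c0)⁻¹ * (S u)⁻¹ =
      A (a1 - a0) * B (b1 - b0) * C (c1 - c0 + k * u * (a1 - a0)) := by
  have iA := add_inv3 aA
  have iB := add_inv3 aB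
  have iC := add_inv3 aC
  have iS := add_inv3 aS
  have zS := add_zero3 aS
  have aA' : ∀ x y (g : E), A x * (A y * g) = A (x + y) * g := fun x y g => by rw [← mul_assoc, aA]
  have aB' : ∀ x y (g : E), B x * (B y * g) = B (x + y) * g := fun x y g => by rw [← mul_assoc, aB]
  have aC' : ∀ x y (g : E), C x * (C y * g) = C (x + y) * g := fun x y g => by rw [← mul_assoc, aC]
  have aS' : ∀ x y (g : E), S x * (S y * g) = S (x + y) * g := fun x y g => by rw [← mul_assoc, aS]
  have sBA : ∀ x y, B y * A x = A x * B y := fun x y => (cAB x y).symm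
  have sBA' : ∀ x y (g : E), B y * (A x * g) = A x * (B y * g) := fun x y g => by
    rw [← mul_assoc, sBA, mul_assoc]
  have sCA : ∀ x y, C y * A x = A x * C y := fun x y => (cAC x y).symm
  have sCA' : ∀ x y (g : E), C y * (A x * g) = A x * (C y * g) := fun x y g => by
    rw [← mul_assoc, sCA, mul_assoc]
  have sCB : ∀ x y, C y * B x = B x * C y := fun x y => (cBC x y).symm
  have sCB' : ∀ x y (g : E), C y * (B x * g) = B x * (C y * g) := fun x y g => by
    rw [← mul_assoc, sCB, mul_assoc]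
  have sBS : ∀ x y, B y * S x = S x * B y := fun x y => (cSB x y).symm
  have sBS' : ∀ x y (g : E), B y * (S x * g) = S x * (B y * g) := fun x y g => by
    rw [← mul_assoc, sBS, mul_assoc]
  have sCS : ∀ x y, C y * S x = S x * C y := fun x y => (cSC x y).symm
  have sCS' : ∀ x y (g : E), C y * (S x * g) = S x * (C y * g) := fun x y g => by
    rw [← mul_assoc, sCS, mul_assoc]
  have sAS : ∀ x y, A y * S x = S x * (A y * C (k * (-x) * y)) := fun x y => by
    rw [hAS, mul_assoc]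
  have sAS' : ∀ x y (g : E), A y * (S x * g) = S x * (A y * (C (k * (-x) * y) * g)) :=
    fun x y g => by rw [← mul_assoc, hAS]; simp only [mul_assoc]
  simp only [mul_inv_rev, iA, iB, iC, iS, mul_assoc, aC, aA', aB', aC', aS',
    sBA, sBA', sCA, sCA', sCB, sCB', sBS, sBS', sCS, sCS', sAS, sAS', add_neg_cancel, zS, one_mul]
  refine congrArg₂ (· * ·) (congrArg A ?_) (congrArg₂ (· * ·) (congrArg B ?_) (congrArg C ?_)) <;>
    ring

/-- [BS3] (helper16's copy) -/
theorem star_shape3 (φ : ℕ → K → E) {s q1 q2 q3 : ℕ} {C11 C21 C12 κ : ℤ}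
    (as : AddP φ s) (a1 : AddP φ q1) (a2 : AddP φ q2) (a3 : AddP φ q3)
    (c12 : CommP φ q1 q2) (c13 : CommP φ q1 q3) (c23 : CommP φ q2 q3)
    (cs2 : CommP φ s q2) (cs3 : CommP φ s q3)
    (hs1 : ∀ x y : K, φ q1 y * φ s x = φ s x * φ q1 y * φ q3 ((κ : K) * (-x) ^ 1 * y ^ 1))
    (hid : 2 * C12 + κ * C11 = 0) (b t u : K) :
    φ s u * tW φ [(q1, C11, 1, 1), (q2, C21, 2, 1), (q3, C12, 1, 2)] t (b * u) *
        (tW φ [(q1, C11, 1, 1), (q2, C21, 2, 1), (q3, C12, 1, 2)] t u)⁻¹ * (φ s u)⁻¹ =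
      tW φ [(q1, C11, 1, 1), (q2, C21, 2, 1), (q3, C12, 1, 2)] t ((b - 1) * u) := by
  have hidK : (2 : K) * C12 + κ * C11 = 0 := by
    exact_mod_cast congrArg (Int.cast : ℤ → K) hid
  have hs1' : ∀ x y : K, φ q1 y * φ s x = φ s x * φ q1 y * φ q3 ((κ : K) * (-x) * y) := by
    intro x y
    have := hs1 x y
    rwa [pow_one, pow_one] at this
  have key := core3 (φ q1) (φ q2) (φ q3) (φ s) a1 a2 a3 as c12 c13 c23 cs2 cs3 (κ : K) hs1' u
    ((C11 : K) * (-t) ^ 1 * (b * u) ^ 1) ((C21 : K) * (-t) ^ 2 * (b * u) ^ 1)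
    ((C12 : K) * (-t) ^ 1 * (b * u) ^ 2)
    ((C11 : K) * (-t) ^ 1 * u ^ 1) ((C21 : K) * (-t) ^ 2 * u ^ 1) ((C12 : K) * (-t) ^ 1 * u ^ 2)
  simp only [tW, List.map_cons, List.map_nil, wS_cons, wS_nil, mul_one]
  simp only [mul_assoc] at key ⊢
  refine key.trans ?_
  refine congrArg₂ (· * ·) (congrArg (φ q1) ?_) (congrArg₂ (· * ·) (congrArg (φ q2) ?_)
    (congrArg (φ q3) ?_))
  · ring
  · ring
  · linear_combination (-(t * u ^ 2 * (b - 1))) * hidK

end Helper16

end Cfsg.Agent.Lib.Helper14.StCC.B
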