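import Cfsg.Agent.Lib.Helper16.StCCB.Shapes
import Cfsg.Agent.Lib.Helper16.StCCB.Shape3
import Cfsg.Agent.Lib.Helper12.StCCBS4
import Cfsg.Agent.Lib.Helper6.StCCAlg

set_option autoImplicit false

/-! Steinberg's Theorem 10, PART B: the assembly, from three table facts about the datum. -/

namespace Cfsg.Agent.Lib.Helper14.StCC.B

open Cfsg.Lie Cfsg.Agent.Lib.Helper8.Chev

section assembly

variable {D : ChevalleyDatum} {K : Type*} [Field K] {Γ : Type*} [Group Γ] {E : Type*} [Group E]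

/-- the assembly of Part B, from the three table facts about the datum `D` -/
theorem comm_main_of (S : StRep D K Γ) (hK5 : ∃ s : Finset K, 4 < s.card)
    (ψ : E →* Γ) (hψ : Function.Surjective ψ) (hc : ψ.ker ≤ Subgroup.center E)
    (L : RootLift S ψ)
    (hshape : ∀ r s : ℕ, r < D.nroots → s < D.nroots → s ≠ r → s ≠ D.neg r → ShapeP D r s)
    (hperp : ∀ r s : ℕ, r < D.nroots → s < D.nroots → s ≠ r → s ≠ D.neg r →
      ∃ m : ℕ → ℤ, wt D m r = 0 ∧ wt D m s ≠ 0 ∧ -3 ≤ wt D m s ∧ wt D m s ≤ 3)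
    (hwt : ∀ (m : ℕ → ℤ) (r s : ℕ), r < D.nroots → s < D.nroots → s ≠ r → s ≠ D.neg r →
      ∀ c ∈ D.commTerms r s, c.1 < D.nroots ∧
        wt D m c.1 = (c.2.2.1 : ℤ) * wt D m r + (c.2.2.2 : ℤ) * wt D m s) :
    ∀ r < D.nroots, ∀ s < D.nroots, s ≠ r → s ≠ D.neg r → ∀ t u : K,
      L.φ s u * L.φ r t = L.φ r t * L.φ s u * wS L.φ (D.commWord K r s t u) := by
  have V := valid0_of_mem S.hD
  have addP : ∀ q < D.nroots, AddP L.φ q := fun q hq => L.add q hq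
  -- the two tools
  have toolU : ∀ r s : ℕ, r < D.nroots → s < D.nroots → s ≠ r → s ≠ D.neg r →
      (∀ b t u : K, L.φ s u * tW L.φ (D.commTerms r s) t (b * u) *
        (tW L.φ (D.commTerms r s) t u)⁻¹ * (L.φ s u)⁻¹ =
        tW L.φ (D.commTerms r s) t ((b - 1) * u)) →
      ∀ t u : K, L.φ s u * L.φ r t = L.φ r t * L.φ s u * wS L.φ (D.commWord K r s t u) := by
    intro r s hr hs h1 h2 hstar
    obtain ⟨m, hm0, hm1, hlo, hhi⟩ := hperp r s hr hs h1 h2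
    obtain ⟨v, hv, hb⟩ :=
      Cfsg.Agent.Lib.Helper6.StCCAlg.exists_pow_ne_one hK5 _ hm1 (by omega)
    exact comm_of_star S ψ hψ hc L hr hs h1 h2 m hm0 hv hb
      (fun c hc' => hwt m r s hr hs h1 h2 c hc') (fun t u => hstar _ t u)
  have toolT : ∀ r s : ℕ, r < D.nroots → s < D.nroots → s ≠ r → s ≠ D.neg r →
      (∀ a t u : K, L.φ r t * (tW L.φ (D.commTerms r s) t u)⁻¹ *
        tW L.φ (D.commTerms r s) (a * t) u * (L.φ r t)⁻¹ =
        tW L.φ (D.commTerms r s) ((a - 1) * t) u) →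
      ∀ t u : K, L.φ s u * L.φ r t = L.φ r t * L.φ s u * wS L.φ (D.commWord K r s t u) := by
    intro r s hr hs h1 h2 hstar
    have h2' : r ≠ D.neg s := by
      intro h; apply h2; rw [h, V.neg_neg hs]
    obtain ⟨m, hm0, hm1, hlo, hhi⟩ := hperp s r hs hr h1.symm h2'
    obtain ⟨v, hv, hb⟩ :=
      Cfsg.Agent.Lib.Helper6.StCCAlg.exists_pow_ne_one hK5 _ hm1 (by omega)
    exact comm_of_star' S ψ hψ hc L hr hs h1 h2 m hm0 hv hb
      (fun c hc' => hwt m r s hr hs h1 h2 c hc') (fun t u => hstar _ t u)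
  -- height 0
  have P0 : ∀ a b : ℕ, NilP D a b → CommP L.φ a b := by
    intro a b ⟨ha, hb, h1, h2, hT⟩ x y
    have := toolU a b ha hb h1 h2 (by intro b' t u; rw [hT]; exact star_shape0 L.φ b b' t u) x y
    rw [wS_commWord, hT, tW_nil, mul_one] at this
    exact this.symm
  -- height 1
  have P1 : ∀ (a b q : ℕ) (N : ℤ), OneP D a b q N → NilP D b q → ∀ x y : K,
      L.φ b y * L.φ a x = L.φ a x * L.φ b y * L.φ q ((N : K) * (-x) ^ 1 * y ^ 1) := by
    intro a b q N ⟨ha, hb, h1, h2, hT⟩ hn x y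
    have := toolU a b ha hb h1 h2 (by
      intro b' t u; rw [hT]
      exact star_shape1 L.φ (addP q hn.2.1) (P0 b q hn) b' t u) x y
    rw [wS_commWord, hT, tW_cons, tW_nil, mul_one] at this
    exact this
  intro r hr s hs h1 h2
  rcases hshape r s hr hs h1 h2 with hT | ⟨q, C, hT, hn⟩ |
    ⟨q1, q2, C1, C2, hT, n12, ns1, ns2⟩ | ⟨q1, q2, C1, C2, hT, n12, nr1, nr2⟩ |
    ⟨q1, q2, q3, C11, C21, C12, κ, hT, n12, n13, n23, ns2, ns3, o, hid⟩ |
    ⟨q1, q2, q3, q4, C11, C21, C31, C32, N, N', hT, n13, n14, n23, n24, n34, ns1, ns2, ns4, o12,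
      os3, hid⟩ |
    ⟨q1, q2, q3, q4, C11, C12, C13, C23, N, N', hT, n13, n14, n23, n24, n34, nr1, nr2, nr4, o12,
      or3, hid⟩
  · exact toolU r s hr hs h1 h2 (by intro b t u; rw [hT]; exact star_shape0 L.φ s b t u)
  · exact toolU r s hr hs h1 h2 (by
      intro b t u; rw [hT]
      exact star_shape1 L.φ (addP q hn.2.1) (P0 s q hn) b t u)
  · exact toolU r s hr hs h1 h2 (by
      intro b t u; rw [hT]
      exact star_shape2 L.φ (addP q1 n12.1) (addP q2 n12.2.1) (P0 _ _ n12) (P0 _ _ ns1)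
        (P0 _ _ ns2) b t u)
  · exact toolT r s hr hs h1 h2 (by
      intro a t u; rw [hT]
      exact star_shape2' L.φ (addP q1 n12.1) (addP q2 n12.2.1) (P0 _ _ n12) (P0 _ _ nr1)
        (P0 _ _ nr2) a t u)
  · exact toolU r s hr hs h1 h2 (by
      intro b t u; rw [hT]
      exact Helper16.star_shape3 L.φ (addP s hs) (addP q1 n12.1) (addP q2 n12.2.1) (addP q3 n13.2.1)
        (P0 _ _ n12) (P0 _ _ n13) (P0 _ _ n23) (P0 _ _ ns2) (P0 _ _ ns3)
        (P1 s q1 q3 κ o n13) hid b t u)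
  · exact toolU r s hr hs h1 h2 (by
      intro b t u; rw [hT]
      exact Helper12.star_shape4 L.φ (addP s hs) (addP q1 n13.1) (addP q2 n23.1) (addP q3 n13.2.1)
        (addP q4 n14.2.1) (P0 _ _ n13) (P0 _ _ n14) (P0 _ _ n23) (P0 _ _ n24) (P0 _ _ n34)
        (P0 _ _ ns1) (P0 _ _ ns2) (P0 _ _ ns4) (P1 q1 q2 q4 N o12 n24) (P1 s q3 q4 N' os3 n34)
        hid b t u)
  · exact toolT r s hr hs h1 h2 (by
      intro a t u; rw [hT]
      exact Helper12.star_shape4' L.φ (addP r hr) (addP q1 n13.1) (addP q2 n23.1) (addP q3 n13.2.1)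
        (addP q4 n14.2.1) (P0 _ _ n13) (P0 _ _ n14) (P0 _ _ n23) (P0 _ _ n24) (P0 _ _ n34)
        (P0 _ _ nr1) (P0 _ _ nr2) (P0 _ _ nr4) (P1 q1 q2 q4 N o12 n24) (P1 r q3 q4 N' or3 n34)
        hid a t u)

end assembly

end Cfsg.Agent.Lib.Helper14.StCC.B
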