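import Cfsg.Agent.Lib.Helper14.StCC.Defs

set_option autoImplicit false

/-! Steinberg's Theorem 10, PART B (the lifts satisfy the commutator relations (R2)):
shared definitions for the pieces (sub-architect helper16).

For an ordered pair `(r, s)` write `W(t,u) = wS φ (D.commWord K r s t u)`.  The relation (R2) for
`(r, s)` is `φ s u * φ r t = φ r t * φ s u * W(t,u)`.  With a torus element centralising `φ r` and
scaling `φ s` by `b ≠ 1` the relation follows from the word identity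
`(*)  φ s u * W(t, b u) * W(t, u)⁻¹ * (φ s u)⁻¹ = W(t, (b - 1) u)`
(mirror: scale `t`, `(**)  φ r t * W(t,u)⁻¹ * W(a t, u) * (φ r t)⁻¹ = W((a - 1) t, u)`),
which only involves pairs of roots with fewer roots between them. -/

namespace Cfsg.Agent.Lib.Helper14.StCC.B

open Cfsg.Lie Cfsg.Agent.Lib.Helper8.Chev

/-- `(a, b)` is an admissible ordered pair of roots whose commutator formula has no terms -/
def NilP (D : ChevalleyDatum) (a b : ℕ) : Prop :=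
  a < D.nroots ∧ b < D.nroots ∧ b ≠ a ∧ b ≠ D.neg a ∧ D.commTerms a b = []

/-- `(a, b)` is an admissible ordered pair of roots whose commutator formula has the single term
`(q, N, 1, 1)` -/
def OneP (D : ChevalleyDatum) (a b q : ℕ) (N : ℤ) : Prop :=
  a < D.nroots ∧ b < D.nroots ∧ b ≠ a ∧ b ≠ D.neg a ∧ D.commTerms a b = [(q, N, 1, 1)]

/-- the seven shapes of the commutator formula of an ordered pair `(r, s)`, with the facts about
the pairs of smaller height that the proof of (R2) for `(r, s)` uses -/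
def ShapeP (D : ChevalleyDatum) (r s : ℕ) : Prop :=
  D.commTerms r s = [] ∨
  (∃ (q : ℕ) (C : ℤ), D.commTerms r s = [(q, C, 1, 1)] ∧ NilP D s q) ∨
  (∃ (q1 q2 : ℕ) (C1 C2 : ℤ), D.commTerms r s = [(q1, C1, 1, 1), (q2, C2, 2, 1)] ∧
    NilP D q1 q2 ∧ NilP D s q1 ∧ NilP D s q2) ∨
  (∃ (q1 q2 : ℕ) (C1 C2 : ℤ), D.commTerms r s = [(q1, C1, 1, 1), (q2, C2, 1, 2)] ∧
    NilP D q1 q2 ∧ NilP D r q1 ∧ NilP D r q2) ∨
  (∃ (q1 q2 q3 : ℕ) (C11 C21 C12 κ : ℤ),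
    D.commTerms r s = [(q1, C11, 1, 1), (q2, C21, 2, 1), (q3, C12, 1, 2)] ∧
    NilP D q1 q2 ∧ NilP D q1 q3 ∧ NilP D q2 q3 ∧ NilP D s q2 ∧ NilP D s q3 ∧
    OneP D s q1 q3 κ ∧ 2 * C12 + κ * C11 = 0) ∨
  (∃ (q1 q2 q3 q4 : ℕ) (C11 C21 C31 C32 N N' : ℤ),
    D.commTerms r s = [(q1, C11, 1, 1), (q2, C21, 2, 1), (q3, C31, 3, 1), (q4, C32, 3, 2)] ∧
    NilP D q1 q3 ∧ NilP D q1 q4 ∧ NilP D q2 q3 ∧ NilP D q2 q4 ∧ NilP D q3 q4 ∧
    NilP D s q1 ∧ NilP D s q2 ∧ NilP D s q4 ∧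
    OneP D q1 q2 q4 N ∧ OneP D s q3 q4 N' ∧ N * C11 * C21 + N' * C31 + 2 * C32 = 0) ∨
  (∃ (q1 q2 q3 q4 : ℕ) (C11 C12 C13 C23 N N' : ℤ),
    D.commTerms r s = [(q1, C11, 1, 1), (q2, C12, 1, 2), (q3, C13, 1, 3), (q4, C23, 2, 3)] ∧
    NilP D q1 q3 ∧ NilP D q1 q4 ∧ NilP D q2 q3 ∧ NilP D q2 q4 ∧ NilP D q3 q4 ∧
    NilP D r q1 ∧ NilP D r q2 ∧ NilP D r q4 ∧
    OneP D q1 q2 q4 N ∧ OneP D r q3 q4 N' ∧ N * C11 * C12 - N' * C13 + 2 * C23 = 0)

/-- the word `∏ φ_q(C (-t)^i u^j)` of a list of terms -/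
def tW {K E : Type*} [Field K] [Group E] (φ : ℕ → K → E) (l : List (ℕ × ℤ × ℕ × ℕ)) (t u : K) : E :=
  wS φ (l.map fun c => (c.1, (c.2.1 : K) * (-t) ^ c.2.2.1 * u ^ c.2.2.2))

theorem wS_commWord {K E : Type*} [Field K] [Group E] (φ : ℕ → K → E) (D : ChevalleyDatum)
    (r s : ℕ) (t u : K) : wS φ (D.commWord K r s t u) = tW φ (D.commTerms r s) t u := rfl

/-- the root elements `φ a ·` and `φ b ·` commute -/
def CommP {K E : Type*} [Group E] (φ : ℕ → K → E) (a b : ℕ) : Prop :=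
  ∀ x y : K, φ a x * φ b y = φ b y * φ a x

/-- additivity of `φ a` -/
def AddP {K E : Type*} [Add K] [Group E] (φ : ℕ → K → E) (a : ℕ) : Prop :=
  ∀ x y : K, φ a x * φ a y = φ a (x + y)

end Cfsg.Agent.Lib.Helper14.StCC.B
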